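import Mathlib.RingTheory.AdicCompletion.Basic
import Mathlib.RingTheory.AdicCompletion.Algebra
import Mathlib.RingTheory.Filtration
import Mathlib.RingTheory.Flat.EquationalCriterion
import Mathlib.RingTheory.Ideal.Quotient.Operations
import Mathlib.LinearAlgebra.TensorProduct.Quotient

/-!
# Complete modules with flat truncations are flat
-/

set_option autoImplicit false

universe u v

namespace Groth.Agent.FlatCompleteH1

theorem flat_of_semilinear {A B : Type u} [CommRing A] [CommRing B] {X Y : Type v} [AddCommGroup X]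
    [Module A X] [AddCommGroup Y] [Module B Y] (e : A ≃+* B) (θ : X ≃+ Y)
    (hθ : ∀ (a : A) (x : X), θ (a • x) = e a • θ x) [Module.Flat B Y] : Module.Flat A X := by
  refine Module.Flat.iff_forall_isTrivialRelation.2 fun {l f x} h => ?_
  have h' : ∑ i, e (f i) • θ (x i) = 0 := by simpa [hθ] using congrArg θ h
  obtain ⟨k, a, y, h1, h2⟩ := Module.Flat.isTrivialRelation_of_sum_smul_eq_zero h'
  refine ⟨k, fun i j => e.symm (a i j), fun j => θ.symm (y j), fun i => θ.injective ?_,
    fun j => e.injective ?_⟩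
  · simp [h1 i, hθ]
  · simpa using h2 j

section

variable {S : Type u} [CommRing S] {M : Type v} [AddCommGroup M] [Module S M]

theorem pi_mem_smul_top {a : ℕ} {K : Ideal S} {h : Fin a → S} (hh : ∀ i, h i ∈ K) :
    h ∈ K • (⊤ : Submodule S (Fin a → S)) := by
  classical
  rw [pi_eq_sum_univ h]
  exact Submodule.sum_mem _ fun i _ => Submodule.smul_mem_smul (hh i) Submodule.mem_top

theorem mem_of_mem_smul_top {a : ℕ} {K : Ideal S} {h : Fin a → S}
    (hh : h ∈ K • (⊤ : Submodule S (Fin a → S))) (i : Fin a) : h i ∈ K := by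
  refine Submodule.smul_induction_on hh (fun r hr n _ => ?_) fun x y hx hy => ?_
  · exact Ideal.mul_mem_right _ _ hr
  · exact add_mem hx hy

/-- Lift of a relation: if `A v` lies in `J ^ (n + c) M`, then `v` is a combination of exact relations
modulo `J ^ n M`. -/
theorem approx [IsNoetherianRing S] (J : Ideal S)
    (hflat : ∀ n : ℕ, Module.Flat (S ⧸ J ^ n) (M ⧸ (J ^ n • ⊤ : Submodule S M)))
    {a b k : ℕ} (A : Fin b → Fin a → S) (H : Fin k → Fin a → S)
    (hH : ∀ h : Fin a → S, (∀ i, ∑ j, A i j * h j = 0) → h ∈ Submodule.span S (Set.range H)) :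
    ∃ c : ℕ, ∀ (n : ℕ) (v : Fin a → M), (∀ i, ∑ j, A i j • v j ∈ (J ^ (n + c) • ⊤ : Submodule S M)) →
      ∃ y : Fin k → M, ∀ j, v j - ∑ m, H m j • y m ∈ (J ^ n • ⊤ : Submodule S M) := by
  classical
  let φ : (Fin a → S) →ₗ[S] (Fin b → S) := LinearMap.pi fun i => ∑ j, A i j • LinearMap.proj j
  have hφ : ∀ h i, φ h i = ∑ j, A i j * h j := fun h i => by simp [φ]
  obtain ⟨c, hc⟩ := Ideal.exists_pow_inf_eq_pow_smul J (LinearMap.range φ)
  refine ⟨c, fun n v hv => ?_⟩
  let N := n + c
  let Sb := S ⧸ J ^ N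
  let Mb := M ⧸ (J ^ N • ⊤ : Submodule S M)
  haveI : Module.Flat Sb Mb := hflat N
  have hmk : ∀ (s : S) (m : M), Ideal.Quotient.mk (J ^ N) s • (Submodule.Quotient.mk m : Mb) =
      Submodule.Quotient.mk (s • m) := fun s m => rfl
  let f : (Fin b → Sb) →ₗ[Sb] (Fin a → Sb) :=
    Fintype.linearCombination Sb fun i j => Ideal.Quotient.mk (J ^ N) (A i j)
  let x : (Fin a → Sb) →ₗ[Sb] Mb :=
    Fintype.linearCombination Sb fun j => (Submodule.Quotient.mk (v j) : Mb)
  have hfe : ∀ i, f (Pi.single i 1) = fun j => Ideal.Quotient.mk (J ^ N) (A i j) := fun i =>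
    by simp [f, Fintype.linearCombination_apply, Pi.single_apply]
  have hxf : x ∘ₗ f = 0 := by
    apply LinearMap.pi_ext'
    intro i
    apply LinearMap.ext_ring
    show x (f (Pi.single i 1)) = 0
    rw [hfe]
    simp only [x, Fintype.linearCombination_apply]
    simp only [hmk]
    rw [show (∑ j, (Submodule.Quotient.mk (A i j • v j) : Mb)) = Submodule.Quotient.mk (∑ j, A i j • v j)
      from (map_sum (J ^ N • ⊤ : Submodule S M).mkQ _ _).symm]
    exact (Submodule.Quotient.mk_eq_zero _).2 (hv i)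
  obtain ⟨k', α, y, hxy, hαf⟩ := Module.Flat.exists_factorization_of_comp_eq_zero_of_free hxf
  have hg : ∀ (l : Fin k') (j : Fin a), ∃ s : S, Ideal.Quotient.mk (J ^ N) s = α (Pi.single j 1) l :=
    fun l j => Ideal.Quotient.mk_surjective _
  choose g hg using hg
  have hAg : ∀ (l : Fin k') (i : Fin b), φ (g l) i ∈ J ^ N := by
    intro l i
    rw [hφ, ← Ideal.Quotient.eq_zero_iff_mem, map_sum]
    have h1 := congrArg (fun z => z l) (LinearMap.congr_fun hαf (Pi.single i 1))
    simp only [LinearMap.comp_apply, hfe,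
      LinearMap.zero_apply, Finsupp.coe_zero, Pi.zero_apply] at h1
    rw [pi_eq_sum_univ' (fun j => Ideal.Quotient.mk (J ^ N) (A i j)), map_sum, Finsupp.coe_finsetSum,
      Finset.sum_apply] at h1
    rw [← h1]
    refine Finset.sum_congr rfl fun j _ => ?_
    rw [map_mul, hg, map_smul, Finsupp.smul_apply, smul_eq_mul]
  have hdec : ∀ l, ∃ h : Fin a → S, h ∈ Submodule.span S (Set.range H) ∧ ∀ j, g l j - h j ∈ J ^ n := by
    intro l
    have h1 : φ (g l) ∈ J ^ N • (⊤ : Submodule S (Fin b → S)) ⊓ LinearMap.range φ :=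
      ⟨pi_mem_smul_top (hAg l), LinearMap.mem_range_self φ _⟩
    rw [hc N (Nat.le_add_left c n), show N - c = n from Nat.add_sub_cancel n c] at h1
    have h2 : φ (g l) ∈ (J ^ n • (⊤ : Submodule S (Fin a → S))).map φ := by
      rw [Submodule.map_smul'', Submodule.map_top]
      exact Submodule.smul_mono le_rfl inf_le_right h1
    obtain ⟨d, hd, hde⟩ := h2
    refine ⟨g l - d, hH _ fun i => ?_, fun j => ?_⟩
    · rw [← hφ, map_sub, hde, sub_self, Pi.zero_apply]
    · simpa using mem_of_mem_smul_top hd j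
  choose h hh hgh using hdec
  choose coef hcoef using fun l => (Submodule.mem_span_range_iff_exists_fun S).1 (hh l)
  have hz : ∀ l : Fin k', ∃ z : M, (Submodule.Quotient.mk z : Mb) = y (Finsupp.single l 1) :=
    fun l => Submodule.Quotient.mk_surjective _ _
  choose z hz using hz
  refine ⟨fun m => ∑ l, coef l m • z l, fun j => ?_⟩
  have hle : (J ^ N • ⊤ : Submodule S M) ≤ J ^ n • ⊤ :=
    Submodule.smul_mono_left (Ideal.pow_le_pow_right (Nat.le_add_right n c))
  have h1 : v j - ∑ l, g l j • z l ∈ (J ^ N • ⊤ : Submodule S M) := by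
    rw [← Submodule.Quotient.eq]
    have e1 : x (Pi.single j 1) = (Submodule.Quotient.mk (v j) : Mb) := by
      simp [x, Fintype.linearCombination_apply_single]
    rw [← e1, hxy, LinearMap.comp_apply,
      show (Submodule.Quotient.mk (∑ l, g l j • z l) : Mb) = ∑ l, Submodule.Quotient.mk (g l j • z l)
        from map_sum (J ^ N • ⊤ : Submodule S M).mkQ _ _]
    conv_lhs => rw [← Finsupp.univ_sum_single (α (Pi.single j 1)), map_sum]
    refine Finset.sum_congr rfl fun l _ => ?_
    rw [← hmk, hg, hz, ← map_smul, Finsupp.smul_single', mul_one]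
  have h2 : v j - ∑ m, H m j • ∑ l, coef l m • z l =
      (v j - ∑ l, g l j • z l) + ∑ l, (g l j - h l j) • z l := by
    have : ∀ l, h l j = ∑ m, coef l m * H m j := fun l => by
      rw [← hcoef l, Finset.sum_apply]; simp
    simp only [sub_smul, Finset.sum_sub_distrib, this, Finset.sum_smul, Finset.smul_sum, smul_smul]
    rw [Finset.sum_comm (f := fun m l => (H m j * coef l m) • z l)]
    simp only [mul_comm (H _ j)]
    abel
  rw [h2]
  exact add_mem (hle h1) (Submodule.sum_mem _ fun l _ =>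
    Submodule.smul_mem_smul (hgh l j) Submodule.mem_top)

theorem sum_smul_mem {ι : Type*} [Fintype ι] (K : Submodule S M) (s : ι → S) (u : ι → M) (h : ∀ i, u i ∈ K) :
    ∑ i, s i • u i ∈ K :=
  Submodule.sum_mem _ fun i _ => K.smul_mem _ (h i)

/-- A complete module over a Noetherian ring all of whose truncations are flat is flat. -/
theorem flat_of_complete [IsNoetherianRing S] (J : Ideal S) [IsPrecomplete J M] [IsHausdorff J M]
    (hflat : ∀ n : ℕ, Module.Flat (S ⧸ J ^ n) (M ⧸ (J ^ n • ⊤ : Submodule S M))) :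
    Module.Flat S M := by
  classical
  refine Module.Flat.iff_forall_isTrivialRelation.2 fun {l f x} hfx => ?_
  have gens : ∀ {a b : ℕ} (A : Fin b → Fin a → S), ∃ (k : ℕ) (H : Fin k → Fin a → S),
      (∀ m i, ∑ j, A i j * H m j = 0) ∧
      ∀ h : Fin a → S, (∀ i, ∑ j, A i j * h j = 0) → h ∈ Submodule.span S (Set.range H) := by
    intro a b A
    let φ : (Fin a → S) →ₗ[S] (Fin b → S) := LinearMap.pi fun i => ∑ j, A i j • LinearMap.proj j
    have hφ : ∀ h i, φ h i = ∑ j, A i j * h j := fun h i => by simp [φ]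
    obtain ⟨k, H, hH⟩ := Submodule.fg_iff_exists_fin_generating_family.1
      (IsNoetherian.noetherian (LinearMap.ker φ))
    refine ⟨k, H, fun m i => ?_, fun h hh => ?_⟩
    · rw [← hφ]
      have : H m ∈ LinearMap.ker φ := hH ▸ Submodule.subset_span ⟨m, rfl⟩
      rw [LinearMap.mem_ker.1 this]; rfl
    · rw [hH, LinearMap.mem_ker]
      exact funext fun i => (hφ h i).trans (hh i)
  obtain ⟨k, H, hH0, hH1⟩ := gens (fun (_ : Fin 1) => f)
  obtain ⟨k', H', hH0', hH1'⟩ := gens (fun (i : Fin l) (m : Fin k) => H m i)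
  obtain ⟨c, hc⟩ := approx (M := M) J hflat (fun (_ : Fin 1) => f) H hH1
  obtain ⟨c', hc'⟩ := approx (M := M) J hflat (fun (i : Fin l) (m : Fin k) => H m i) H' hH1'
  have hy : ∀ n, ∃ y : Fin k → M, ∀ j, x j - ∑ m, H m j • y m ∈ (J ^ (n + c') • ⊤ : Submodule S M) :=
    fun n => hc (n + c') x fun i => by simp [hfx]
  choose y hy using hy
  have hw : ∀ n, ∃ w : Fin k → M, (∀ i, ∑ m, H m i • w m = 0) ∧
      ∀ m, y (n + 1) m - y n m - w m ∈ (J ^ n • ⊤ : Submodule S M) := by
    intro n
    obtain ⟨t, ht⟩ := hc' n (fun m => y (n + 1) m - y n m) fun i => by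
      have h1 := (J ^ (n + c') • ⊤ : Submodule S M).sub_mem (hy n i)
        (Submodule.smul_mono_left (Ideal.pow_le_pow_right (by omega)) (hy (n + 1) i))
      simp only [smul_sub, Finset.sum_sub_distrib]
      convert h1 using 1
      abel
    refine ⟨fun m => ∑ p, H' p m • t p, fun i => ?_, ht⟩
    simp only [Finset.smul_sum, smul_smul]
    rw [Finset.sum_comm]
    simp only [← Finset.sum_smul, hH0', zero_smul, Finset.sum_const_zero]
  choose w hw0 hw1 using hw
  let u : ℕ → Fin k → M := fun n m => y n m - ∑ r ∈ Finset.range n, w r m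
  have hHu : ∀ n i, ∑ m, H m i • u n m = ∑ m, H m i • y n m := by
    intro n i
    simp only [u, smul_sub, Finset.sum_sub_distrib, Finset.smul_sum]
    rw [Finset.sum_comm (s := Finset.univ) (t := Finset.range n)]
    simp [hw0]
  have hcau : ∀ (m : Fin k) {p q : ℕ}, p ≤ q → u p m ≡ u q m [SMOD (J ^ p • ⊤ : Submodule S M)] := by
    intro m p q hpq
    induction q, hpq using Nat.le_induction with
    | base => rfl
    | succ q hpq ih =>
      refine ih.trans (SModEq.sub_mem.2 ?_).symm
      refine Submodule.smul_mono_left (Ideal.pow_le_pow_right hpq) ?_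
      convert hw1 q m using 1
      simp only [u, Finset.sum_range_succ]
      abel
  choose L hL using fun m => IsPrecomplete.prec (I := J) ‹_› (hcau m)
  refine ⟨k, fun i m => H m i, L, fun i => ?_, fun m => hH0 m 0⟩
  refine sub_eq_zero.1 (IsHausdorff.haus ‹IsHausdorff J M› _ fun n => SModEq.zero.2 ?_)
  have h1 : x i - ∑ m, H m i • L m =
      (x i - ∑ m, H m i • y n m) + ∑ m, H m i • (u n m - L m) := by
    simp only [smul_sub, Finset.sum_sub_distrib, hHu]; abel
  rw [h1]
  exact add_mem (Submodule.smul_mono_left (Ideal.pow_le_pow_right (Nat.le_add_right n c')) (hy n i))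
    (sum_smul_mem _ _ _ fun m => SModEq.sub_mem.1 (hL m n))

end

theorem flat_adicCompletion {R : Type u} [CommRing R] (I : Ideal R) (hI : I.FG)
    [IsNoetherianRing (AdicCompletion I R)] (M : Type u) [AddCommGroup M] [Module R M]
    [IsPrecomplete I (AdicCompletion I M)] [IsHausdorff I (AdicCompletion I M)]
    (hker : ∀ n : ℕ, I ^ n • (⊤ : Submodule R (AdicCompletion I M)) = (AdicCompletion.eval I M n).ker)
    (hkerR : ∀ n : ℕ, RingHom.ker (AdicCompletion.evalₐ I n).toRingHom =
      (I.map (algebraMap R (AdicCompletion I R))) ^ n)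
    (hflat : ∀ n : ℕ, Module.Flat (R ⧸ I ^ n) (M ⧸ (I ^ n • ⊤ : Submodule R M))) :
    Module.Flat (AdicCompletion I R) (AdicCompletion I M) := by
  let S := AdicCompletion I R
  let J : Ideal S := I.map (algebraMap R S)
  haveI : IsPrecomplete J (AdicCompletion I M) := IsPrecomplete.map_algebraMap_iff.2 inferInstance
  haveI : IsHausdorff J (AdicCompletion I M) := IsHausdorff.map_algebraMap_iff.2 inferInstance
  refine flat_of_complete J fun n => ?_
  haveI := hflat n
  let e : S ⧸ J ^ n ≃+* R ⧸ I ^ n := (Ideal.quotEquivOfEq (hkerR n).symm).trans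
    (RingHom.quotientKerEquivOfSurjective (AdicCompletion.surjective_evalₐ I n))
  have hres : (J ^ n • ⊤ : Submodule S (AdicCompletion I M)).restrictScalars R =
      (AdicCompletion.eval I M n).ker := by
    rw [← hker n, show J ^ n = (I ^ n).map (algebraMap R S) from (Ideal.map_pow _ _ _).symm,
      Ideal.smul_restrictScalars, Submodule.restrictScalars_top]
  let θ : (AdicCompletion I M ⧸ (J ^ n • ⊤ : Submodule S (AdicCompletion I M))) ≃ₗ[R]
      M ⧸ (I ^ n • ⊤ : Submodule R M) :=
    (Submodule.Quotient.restrictScalarsEquiv R _).symm ≪≫ₗ Submodule.quotEquivOfEq _ _ hres ≪≫ₗ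
      (AdicCompletion.eval I M n).quotKerEquivOfSurjective (AdicCompletion.eval_surjective I M n)
  refine flat_of_semilinear e θ.toAddEquiv fun a z => ?_
  obtain ⟨a, rfl⟩ := Ideal.Quotient.mk_surjective a
  obtain ⟨z, rfl⟩ := Submodule.Quotient.mk_surjective _ z
  exact AdicCompletion.val_smul_eq_evalₐ_smul I n a (z.val n)

end Groth.Agent.FlatCompleteH1
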